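import Cfsg.Agent.H793.G5.HNFin
import Cfsg.Agent.H650.Q5.LocHN

/-!
# S5211, block q = 5: the rows `HN`, `Aut(HN)` (helper793; local data of `HN`: helper650)
-/

set_option autoImplicit false

namespace Cfsg.Agent.H793.G5

open Cfsg Cfsg.Agent.H24.Q5 Cfsg.Agent.H779.G2

theorem rowHN (hsys : StRowSys) (hgood : StGood) (hfive : StFive) : StRowHN :=
  stRowHN hsys hgood hfive H650.Q5.loc_HN

theorem rowHN2 (hsys : StRowSys) (hgood : StGood) (hfive : StFive) : StRowHN2 :=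
  stRowHN2 hsys hgood hfive H650.Q5.loc_HN

theorem hn_128 (hsys : StRowSys) (hgood : StGood) (hfive : StFive) :
    ∃ (T : Sylow 5 Cfsg.Spor.HN) (e : (T : Subgroup Cfsg.Spor.HN) ≃* U5), Loc Cfsg.Spor.HN T e ∧ 128 ∣ autN T e :=
  exists_128 hsys hgood hfive H650.Q5.loc_HN

end Cfsg.Agent.H793.G5
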