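import Cfsg.Agent.H913.Q5.Push
import Cfsg.Agent.H294.G2.TI

/-!
# S5211, block q = 5: the automizer of `Q_a` in an overgroup of index two (helper793)

`j : G → H` injective of index 2, `5⁷` does not divide `|H|`, `C_H(Q) ≤ G`: then `|Aut_H(Q)| = 2 |Aut_G(Q)|`; as both numbers
are among the five of `StFive`, they are `625·640` and `625·1280`: this gives `StRowHN` and `StRowHN2`.
-/

set_option autoImplicit false

namespace Cfsg.Agent.H793.G5

open Cfsg Cfsg.Agent.H24.Q5 Cfsg.Agent.H779.G2 Cfsg.Agent.H913.Q5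

/-- `Q_a` is characteristic in the Sylow 5-subgroup of `G₂(5)` -/
theorem map_A5 (α : MulAut U5) : A5.map α.toMonoidHom = A5 :=
  (H294.G2.ch_Qa (K := ZMod 5) (by decide) (s := 2) (by decide) (by decide)).map α

variable {G H : Type} [Group G] [Group H]

/-- the normalizer of the Sylow subgroup normalizes `Q` -/
theorem conj_mem_QG {T : Sylow 5 H} {e : (T : Subgroup H) ≃* U5} {h : H}
    (hh : h ∈ Subgroup.normalizer ((T : Subgroup H) : Set H)) {x : H} (hx : x ∈ QG T e) : h * x * h⁻¹ ∈ QG T e := by
  rw [Subgroup.mem_normalizer_iff] at hh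
  have hT : (T : Subgroup H).map (MulAut.conj h).toMonoidHom = (T : Subgroup H) := by
    ext y
    rw [Subgroup.mem_map]
    constructor
    · rintro ⟨z, hz, rfl⟩
      exact (hh z).1 hz
    · intro hy
      refine ⟨h⁻¹ * y * h, (hh _).2 ?_, ?_⟩
      · have : h * (h⁻¹ * y * h) * h⁻¹ = y := by group
        rw [this]
        exact hy
      · show h * (h⁻¹ * y * h) * h⁻¹ = y
        group
  let c : (T : Subgroup H) ≃* (T : Subgroup H) :=
    (((T : Subgroup H).equivMapOfInjective (MulAut.conj h).toMonoidHom (MulAut.conj h).injective).trans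
      (MulEquiv.subgroupCongr hT))
  have hc : ∀ y : (T : Subgroup H), ((c y : (T : Subgroup H)) : H) = h * y * h⁻¹ := fun y => rfl
  obtain ⟨y, hy, rfl⟩ := mem_QG.1 hx
  refine mem_QG.2 ⟨c y, ?_, hc y⟩
  have h1 : ((e.symm.trans c).trans e : MulAut U5) (e y) ∈ A5 := by
    rw [← map_A5 ((e.symm.trans c).trans e : MulAut U5)]
    exact ⟨e y, hy, rfl⟩
  have h2 : ((e.symm.trans c).trans e : MulAut U5) (e y) = e (c y) := by
    show e (c (e.symm (e y))) = e (c y)
    rw [MulEquiv.symm_apply_apply]
  rwa [h2] at h1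

theorem normalizer_le {T : Sylow 5 H} {e : (T : Subgroup H) ≃* U5} :
    Subgroup.normalizer ((T : Subgroup H) : Set H) ≤ Subgroup.normalizer ((QG T e : Subgroup H) : Set H) := by
  intro h hh
  rw [Subgroup.mem_normalizer_iff]
  intro x
  constructor
  · exact fun hx => conj_mem_QG hh hx
  · intro hx
    have := conj_mem_QG (inv_mem hh) hx
    have h1 : h⁻¹ * (h * x * h⁻¹) * h⁻¹⁻¹ = x := by group
    rwa [h1] at this

theorem comap_centralizer (j : G →* H) (hj : Function.Injective j) (Q : Subgroup G) :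
    (Subgroup.centralizer ((Q.map j : Subgroup H) : Set H)).comap j = Subgroup.centralizer (Q : Set G) := by
  ext g
  rw [Subgroup.mem_comap, Subgroup.mem_centralizer_iff, Subgroup.mem_centralizer_iff]
  constructor
  · intro h x hx
    apply hj
    rw [map_mul, map_mul]
    exact h (j x) ⟨x, hx, rfl⟩
  · rintro h _ ⟨x, hx, rfl⟩
    rw [← map_mul, ← map_mul, h x hx]

theorem comap_normalizer (j : G →* H) (hj : Function.Injective j) (Q : Subgroup G) :
    (Subgroup.normalizer ((Q.map j : Subgroup H) : Set H)).comap j = Subgroup.normalizer (Q : Set G) := by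
  have hm : ∀ x, j x ∈ Q.map j ↔ x ∈ Q := fun x => Subgroup.mem_map_iff_mem hj
  ext g
  rw [Subgroup.mem_comap, Subgroup.mem_normalizer_iff, Subgroup.mem_normalizer_iff]
  constructor
  · intro h x
    rw [← hm, ← hm, h (j x), map_mul, map_mul, map_inv]
  · intro h y
    constructor
    · rintro ⟨x, hx, rfl⟩
      exact ⟨g * x * g⁻¹, (h x).1 hx, by rw [map_mul, map_mul, map_inv]⟩
    · rintro ⟨x, hx, hxy⟩
      refine ⟨g⁻¹ * x * g, ?_, ?_⟩
      · refine (h _).2 ?_
        have : g * (g⁻¹ * x * g) * g⁻¹ = x := by group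
        rw [this]
        exact hx
      · rw [map_mul, map_mul, map_inv, hxy]
        group

/-- **Doubling of the automizer.** -/
theorem relIndex_double [Finite H] (j : G →* H) (hj : Function.Injective j) (hidx : j.range.index = 2)
    (T' : Sylow 5 H) (e' : (T' : Subgroup H) ≃* U5) (Q : Subgroup G) (hQ : QG T' e' = Q.map j)
    (hC : ∀ h ∈ Subgroup.centralizer ((Q.map j : Subgroup H) : Set H), h ∈ j.range) :
    (Subgroup.centralizer ((Q.map j : Subgroup H) : Set H)).relIndex
      (Subgroup.normalizer ((Q.map j : Subgroup H) : Set H)) =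
    2 * (Subgroup.centralizer (Q : Set G)).relIndex (Subgroup.normalizer (Q : Set G)) := by
  set N' : Subgroup H := Subgroup.normalizer ((Q.map j : Subgroup H) : Set H) with hN'
  set C' : Subgroup H := Subgroup.centralizer ((Q.map j : Subgroup H) : Set H) with hC'
  have hRn : (j.range).Normal := Subgroup.normal_of_index_eq_two hidx
  -- the Sylow subgroup lies in the range
  have hTR : (T' : Subgroup H) ≤ j.range := by
    intro x hx
    obtain ⟨k, hk⟩ := IsPGroup.iff_orderOf.1 T'.2 ⟨x, hx⟩
    rw [Subgroup.orderOf_mk] at hk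
    have h1 : (x : H) ^ 2 ∈ j.range := by
      rw [← hidx]
      exact Subgroup.pow_index_mem _ x
    have hodd : Odd (5 ^ k : ℕ) := Odd.pow (by decide)
    obtain ⟨m, hm⟩ := hodd
    have h2 : x ^ (2 * m + 1) = 1 := by rw [← hm, ← hk, pow_orderOf_eq_one]
    have h3 : x = (x ^ 2) ^ (m + 1) := by
      rw [← pow_mul, show 2 * (m + 1) = (2 * m + 1) + 1 by ring, pow_succ, h2, one_mul]
    rw [h3]
    exact pow_mem h1 _
  -- Frattini
  have hF : ¬ N' ≤ j.range := by
    intro hle
    have h1 := Sylow.normalizer_sup_eq_top (N := j.range) (T'.subtype hTR)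
    rw [Sylow.coe_subtype, Subgroup.map_subgroupOf_eq_of_le hTR] at h1
    have h2 : Subgroup.normalizer ((T' : Subgroup H) : Set H) ≤ j.range := by
      refine le_trans (normalizer_le (e := e')) ?_
      rw [hQ]
      exact hle
    rw [sup_eq_right.2 h2] at h1
    rw [h1, Subgroup.index_top] at hidx
    exact absurd hidx (by norm_num)
  have h2 : j.range.relIndex N' = 2 := by
    have h1 : j.range.relIndex N' ∣ 2 := by
      rw [← hidx]
      exact Subgroup.relIndex_dvd_index_of_normal _ _
    rcases (Nat.dvd_prime Nat.prime_two).1 h1 with h | h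
    · exact absurd (Subgroup.relIndex_eq_one.1 h) hF
    · exact h
  have hCN : C' ≤ N' := Subgroup.centralizer_le_normalizer _
  have h3 : C'.relIndex (N' ⊓ j.range) * (N' ⊓ j.range).relIndex N' = C'.relIndex N' :=
    Subgroup.relIndex_mul_relIndex _ _ _ (le_inf hCN hC) inf_le_left
  have h4 : (N' ⊓ j.range).relIndex N' = 2 := by
    rw [Subgroup.inf_relIndex_left, h2]
  have h5 : C'.relIndex (N' ⊓ j.range) =
      (Subgroup.centralizer (Q : Set G)).relIndex (Subgroup.normalizer (Q : Set G)) := by
    rw [← comap_centralizer j hj Q, ← comap_normalizer j hj Q, Subgroup.relIndex_comap,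
      Subgroup.map_comap_eq, inf_comm]
  rw [← h3, h4, h5, mul_comm]

/-- the two rows, from a group, its Sylow subgroup and an overgroup of index two -/
theorem rows_of_double (hsys : StRowSys) (hgood : StGood) (hfive : StFive) [Finite G] [Finite H]
    {T : Sylow 5 G} {e : (T : Subgroup G) ≃* U5} (hL : Loc G T e) (j : G →* H) (hj : Function.Injective j)
    (hidx : j.range.index = 2) (hH : ¬ 5 ^ 7 ∣ Nat.card H)
    (hC : ∀ h ∈ Subgroup.centralizer (((QG T e).map j : Subgroup H) : Set H), h ∈ j.range) :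
    autN T e = 625 * 640 ∧ StRowHN ∧ StRowHN2 := by
  obtain ⟨T', e', -, -, hL', hQ, -⟩ := loc_push j hj hH hL
  have h2 : autN T' e' = 2 * autN T e := by
    rw [autN, autN, hQ]
    exact relIndex_double j hj hidx T' e' _ hQ hC
  have key : ∀ (K : Type) (_ : Group K) (_ : Finite K) (S : Sylow 5 K) (f : (S : Subgroup K) ≃* U5), Loc K S f →
      autN S f ∈ ({625 * 480, 625 * 640, 625 * 1280, 625 * 2880, 625 * 7680} : Set ℕ) := by
    intro K _ _ S f hS
    obtain ⟨F, h1, -, h3, h4⟩ := hsys K S f hS
    obtain ⟨F', D, h5, -, h6⟩ := hgood F h1 h3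
    rw [← h4, ← h6]
    exact hfive F' D h5
  have k1 := key G _ inferInstance T e hL
  have k2 := key H _ inferInstance T' e' hL'
  rw [h2] at k2
  simp only [Set.mem_insert_iff, Set.mem_singleton_iff] at k1 k2
  have h3 : autN T e = 625 * 640 := by omega
  refine ⟨h3, ⟨G, inferInstance, inferInstance, T, e, hL, ?_⟩, ⟨H, inferInstance, inferInstance, T', e', hL', ?_⟩⟩
  · rw [h3]; constructor <;> norm_num
  · rw [h2, h3]; constructor <;> norm_num

end Cfsg.Agent.H793.G5
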