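import Cfsg.Agent.H793.G5.RowsHN

/-!
# S5211, block q = 5: the rows `HN`, `Aut(HN)` in the form used for row `B` and for the assembly (helper793)
-/

set_option autoImplicit false

namespace Cfsg.Agent.H793.G5

open Cfsg Cfsg.Agent.H24.Q5 Cfsg.Agent.H779.G2

/-- the local data of `HN` with `128 ∣ |Aut_{HN}(Q_a)|` -/
theorem exists_128 (hsys : StRowSys) (hgood : StGood) (hfive : StFive)
    (hloc : ∃ (T : Sylow 5 Cfsg.Spor.HN) (e : (T : Subgroup Cfsg.Spor.HN) ≃* U5), Loc Cfsg.Spor.HN T e ∧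
      H536.T5.DataA.R 82 ∈ QG T e) :
    ∃ (T : Sylow 5 Cfsg.Spor.HN) (e : (T : Subgroup Cfsg.Spor.HN) ≃* U5), Loc Cfsg.Spor.HN T e ∧ 128 ∣ autN T e := by
  obtain ⟨T, e, hL, hn2⟩ := hloc
  refine ⟨T, e, hL, ?_⟩
  rw [(rows_HN hsys hgood hfive hL hn2).1]
  norm_num

theorem stRowHN (hsys : StRowSys) (hgood : StGood) (hfive : StFive)
    (hloc : ∃ (T : Sylow 5 Cfsg.Spor.HN) (e : (T : Subgroup Cfsg.Spor.HN) ≃* U5), Loc Cfsg.Spor.HN T e ∧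
      H536.T5.DataA.R 82 ∈ QG T e) : StRowHN := by
  obtain ⟨T, e, hL, hn2⟩ := hloc
  exact (rows_HN hsys hgood hfive hL hn2).2.1

theorem stRowHN2 (hsys : StRowSys) (hgood : StGood) (hfive : StFive)
    (hloc : ∃ (T : Sylow 5 Cfsg.Spor.HN) (e : (T : Subgroup Cfsg.Spor.HN) ≃* U5), Loc Cfsg.Spor.HN T e ∧
      H536.T5.DataA.R 82 ∈ QG T e) : StRowHN2 := by
  obtain ⟨T, e, hL, hn2⟩ := hloc
  exact (rows_HN hsys hgood hfive hL hn2).2.2

end Cfsg.Agent.H793.G5
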