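import Cfsg.Agent.H793.G5.Double
import Cfsg.Agent.H793.G5.HNTheta

/-!
# S5211, block q = 5: the rows `HN` and `Aut(HN)` from the local data of `HN` (helper793)
-/

set_option autoImplicit false

namespace Cfsg.Agent.H793.G5

open Cfsg Cfsg.Agent.H24.Q5 Cfsg.Agent.H779.G2 Cfsg.Agent.H913.Q5

theorem conj_injective : Function.Injective (MulAut.conj : Cfsg.Spor.HN →* MulAut Cfsg.Spor.HN) := by
  have hs := H997.OutHN.simple'
  have hc := Cfsg.Agent.HN.Simple.center_eq_bot Cfsg.Agent.HN.A12Group.rho_injective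
  rw [injective_iff_map_eq_one]
  intro g hg
  rw [← Subgroup.mem_bot, ← hc, Subgroup.mem_center_iff]
  intro x
  have h1 : MulAut.conj g x = x := by rw [hg]; rfl
  rw [MulAut.conj_apply, mul_inv_eq_iff_eq_mul] at h1
  exact h1.symm

theorem conj_index : (MulAut.conj : Cfsg.Spor.HN →* MulAut Cfsg.Spor.HN).range.index = 2 := by
  obtain ⟨γ, hγ⟩ := H997.OutHN.exists_outer
  exact H997.OutCard.card_eq_two' hγ KFacts.HN.out_index

theorem card_aut : Nat.card (MulAut Cfsg.Spor.HN) = 273030912000000 * 2 := by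
  rw [← (MulAut.conj : Cfsg.Spor.HN →* MulAut Cfsg.Spor.HN).range.card_mul_index, conj_index,
    ← Nat.card_congr (MonoidHom.ofInjective conj_injective).toEquiv, Cfsg.Agent.KFacts.HN.Classes.card_HN]

/-- **The rows `HN` and `Aut(HN)`**, from the local data of `HN`. -/
theorem rows_HN (hsys : StRowSys) (hgood : StGood) (hfive : StFive) {T : Sylow 5 Cfsg.Spor.HN}
    {e : (T : Subgroup Cfsg.Spor.HN) ≃* U5} (hL : Loc Cfsg.Spor.HN T e) (hn2 : H536.T5.DataA.R 82 ∈ QG T e) :
    autN T e = 625 * 640 ∧ StRowHN ∧ StRowHN2 := by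
  have hfin := KFacts.HN.finite_HN
  have : Finite (MulAut Cfsg.Spor.HN) := inferInstance
  refine rows_of_double hsys hgood hfive hL (MulAut.conj : Cfsg.Spor.HN →* MulAut Cfsg.Spor.HN) conj_injective
    conj_index ?_ ?_
  · rw [card_aut]
    norm_num
  · intro h hh
    apply Theta.inner_of_fix
    rw [Subgroup.mem_centralizer_iff] at hh
    have h1 := hh _ ⟨_, hn2, rfl⟩
    have h2 : h * MulAut.conj (H536.T5.DataA.R 82) * h⁻¹ = MulAut.conj (h (H536.T5.DataA.R 82)) := by
      ext x
      simp [MulAut.mul_apply, MulAut.conj_apply]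
    apply conj_injective
    rw [← h2, ← h1, mul_inv_cancel_right]

end Cfsg.Agent.H793.G5
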